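import Groth.Agent.H19Grp.FrobPow
import Groth.Agent.H22Alg.Frobenius
import Groth.Agent.H7Flat.UnivHomeo
import Groth.Agent.H7Lim.Birational
import Mathlib

/-!
# Inverse up to Frobenius of a purely inseparable universal homeomorphism onto a normal scheme
-/

set_option autoImplicit false
set_option linter.style.haveILetI false
set_option backward.isDefEq.respectTransparency.types false

universe u

open CategoryTheory CategoryTheory.Limits AlgebraicGeometry FrobSch TopologicalSpace
open Groth.Agent.H19Grp.FrobPow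

namespace Groth.Agent.H27FrobRoot

variable {p : ℕ} [Fact p.Prime]

/-- The iterate of the absolute Frobenius is `frobN`. -/
theorem iterate_frob (Z : Scheme.{u}) [IsCharP Z p] : ∀ n : ℕ,
    (fun g : Z ⟶ Z => g ≫ frob Z p)^[n] (𝟙 Z) = frobN p n Z := by
  intro n
  induction n with
  | zero =>
    show 𝟙 Z = frobN p 0 Z
    refine Scheme.Hom.ext rfl fun U => ?_
    change (𝟙 Z : Z ⟶ Z).app U ≫ Z.presheaf.map (𝟙 _) = (frobN p 0 Z).app U
    rw [Z.presheaf.map_id, Category.comp_id]
    ext s
    show s = (frobN p 0 Z).app U s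
    rw [frobN_app, pow_zero, pow_one]
  | succ n ih =>
    rw [Function.iterate_succ_apply', ih]
    refine Scheme.Hom.ext (by simp only [Scheme.Hom.comp_base, frobN_base, frob_base, Category.id_comp]) fun U => ?_
    have h1 : (frobN p n Z ≫ frob Z p).app U = (frob Z p).app U ≫ (frobN p n Z).app (frob Z p ⁻¹ᵁ U) :=
      Scheme.Hom.comp_app _ _ _
    rw [h1]
    change ((frob Z p).app U ≫ (frobN p n Z).app U) ≫ Z.presheaf.map (𝟙 _) = (frobN p (n + 1) Z).app U
    rw [Z.presheaf.map_id, Category.comp_id]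
    ext s
    show (frobN p n Z).app U ((frob Z p).app U s) = (frobN p (n + 1) Z).app U s
    rw [frobN_app, frobN_app, frob_app, ← pow_mul, ← pow_succ']

theorem natCast_eq_zero_functionField (Y : Scheme.{u}) [IsIntegral Y] [IsCharP Y p] :
    (p : Y.functionField) = 0 := by
  haveI : Nonempty (⊤ : Y.Opens) := ⟨⟨genericPoint Y, trivial⟩⟩
  have h := congrArg (Y.germToFunctionField ⊤).hom (natCast_eq_zero_app Y p ⊤)
  rwa [map_natCast, map_zero] at h

section

variable {X Y : Scheme.{u}} [IsIntegral X] [IsIntegral Y] [IsCharP X p] [IsCharP Y p] (u : X ⟶ Y)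
  (e : u (genericPoint X) = genericPoint Y)

/-- The map of function fields. -/
noncomputable def ffMap : Y.functionField →+* X.functionField :=
  (Y.presheaf.stalkSpecializes (specializes_of_eq e) ≫ u.stalkMap (genericPoint X)).hom

theorem ffMap_germ (V : Y.Opens) (hη : genericPoint Y ∈ V) (a : Γ(Y, V)) :
    ffMap u e (Y.presheaf.germ V _ hη a) =
      X.presheaf.germ (u ⁻¹ᵁ V) (genericPoint X) (show u (genericPoint X) ∈ V by rw [e]; exact hη) (u.app V a) := by
  show (u.stalkMap (genericPoint X)).hom ((Y.presheaf.stalkSpecializes (specializes_of_eq e)).hom _) = _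
  rw [TopCat.Presheaf.germ_stalkSpecializes_apply]
  exact Scheme.Hom.germ_stalkMap_apply u V _ _ a

/-- A universal homeomorphism gives a purely inseparable extension of function fields. -/
theorem exists_pow_mem (huniv : FlatMor.IsUnivHomeo u) (z : X.functionField) :
    ∃ (m : ℕ) (y : Y.functionField), ffMap u e y = z ^ p ^ m := by
  haveI := ((H7Flat.isUnivHomeo_iff u).mp huniv).2.1
  set ξ := genericPoint X
  have hres := H22Alg.Frobenius.isPurelyInseparable_of_universallyInjective u ξ
  letI : Algebra (Y.residueField (u ξ)) (X.residueField ξ) := (u.residueFieldMap ξ).hom.toAlgebra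
  haveI : IsPurelyInseparable (Y.residueField (u ξ)) (X.residueField ξ) := hres
  have hp0 : (p : Y.residueField (u ξ)) = 0 := by
    have hsurj := Y.residue_surjective (u ξ)
    have h := congrArg (fun s => (Y.residue (u ξ)).hom ((Y.presheaf.germ ⊤ (u ξ) trivial).hom s)) (natCast_eq_zero_app Y p ⊤)
    simpa using h
  haveI : CharP (Y.residueField (u ξ)) p := (CharP.charP_iff_prime_eq_zero Fact.out).2 hp0
  haveI : ExpChar (Y.residueField (u ξ)) p := ExpChar.prime Fact.out
  obtain ⟨m, hm⟩ := IsPurelyInseparable.pow_mem (Y.residueField (u ξ)) p ((X.residue ξ).hom z)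
  obtain ⟨r, hr⟩ := hm
  obtain ⟨y', rfl⟩ := Y.residue_surjective (u ξ) r
  have hinj : Function.Injective (X.residue ξ).hom :=
    RingHom.injective (R := X.functionField) (X.residue ξ).hom
  have hspec : genericPoint Y ⤳ u ξ := specializes_of_eq e.symm
  refine ⟨m, (Y.presheaf.stalkSpecializes hspec).hom y', hinj ?_⟩
  rw [map_pow]
  refine Eq.trans ?_ hr
  show (X.residue ξ).hom ((u.stalkMap ξ).hom ((Y.presheaf.stalkSpecializes (specializes_of_eq e)).hom
    ((Y.presheaf.stalkSpecializes hspec).hom y'))) = _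
  rw [← RingHom.comp_apply (Y.presheaf.stalkSpecializes (specializes_of_eq e)).hom, ← CommRingCat.hom_comp,
    TopCat.Presheaf.stalkSpecializes_comp, TopCat.Presheaf.stalkSpecializes_refl]
  simp only [CommRingCat.hom_id, RingHom.id_apply]
  exact (ConcreteCategory.congr_hom (Scheme.residue_residueFieldMap (f := u) ξ) y').symm

/-- Finiteness and the degree of the function field extension. -/
theorem exists_finrank_pow [IsFinite u] (huniv : FlatMor.IsUnivHomeo u) :
    letI := (ffMap u e).toAlgebra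
    ∃ n : ℕ, Module.finrank Y.functionField X.functionField = p ^ n ∧
      ∀ z : X.functionField, ∃ y : Y.functionField, ffMap u e y = z ^ p ^ n := by
  letI := (ffMap u e).toAlgebra
  obtain ⟨_, ⟨V, hV, rfl⟩, hηV, -⟩ :=
    Y.isBasis_affineOpens.exists_subset_of_mem_open (Set.mem_univ (genericPoint ↥Y)) isOpen_univ
  have hξ : genericPoint X ∈ u ⁻¹ᵁ V := show u (genericPoint X) ∈ V by rw [e]; exact hηV
  haveI : Nonempty (u ⁻¹ᵁ V : X.Opens) := ⟨⟨_, hξ⟩⟩
  have hU : IsAffineOpen (u ⁻¹ᵁ V) := hV.preimage u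
  haveI := functionField_isFractionRing_of_isAffineOpen X (u ⁻¹ᵁ V) hU
  have hfin : (u.app V).hom.Finite := IsFinite.finite_app (f := u) V hV
  letI algB : Algebra Γ(Y, V) Γ(X, u ⁻¹ᵁ V) := (u.app V).hom.toAlgebra
  haveI : Module.Finite Γ(Y, V) Γ(X, u ⁻¹ᵁ V) := hfin
  obtain ⟨s, hs⟩ := Module.Finite.fg_top (R := Γ(Y, V)) (M := Γ(X, u ⁻¹ᵁ V))
  let g : Γ(X, u ⁻¹ᵁ V) →+* X.functionField := algebraMap _ _
  have hg : ∀ a, g (u.app V a) = ffMap u e (Y.presheaf.germ V _ hηV a) := fun a => (ffMap_germ u e V hηV a).symm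
  classical
  let S : IntermediateField Y.functionField X.functionField := IntermediateField.adjoin _ (↑(s.image g) : Set X.functionField)
  haveI : FiniteDimensional Y.functionField S := by
    refine IntermediateField.finiteDimensional_adjoin fun x hx => ?_
    obtain ⟨b, -, rfl⟩ := Finset.mem_image.mp hx
    obtain ⟨P, hP, hP'⟩ := IsIntegral.of_finite Γ(Y, V) b
    refine ⟨P.map (Y.presheaf.germ V _ hηV).hom, hP.map _, ?_⟩
    rw [Polynomial.eval₂_map]
    have h2 := congrArg g hP'
    rw [map_zero, Polynomial.hom_eval₂] at h2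
    refine Eq.trans ?_ h2
    congr 1
    exact RingHom.ext fun a => (hg a).symm
  have hB : ∀ b, g b ∈ S := by
    intro b
    have hb : b ∈ Submodule.span Γ(Y, V) (↑s : Set Γ(X, u ⁻¹ᵁ V)) := hs ▸ Submodule.mem_top
    induction hb using Submodule.span_induction with
    | mem x hx => exact IntermediateField.subset_adjoin _ _ (Finset.mem_image_of_mem g hx)
    | zero => rw [map_zero]; exact S.zero_mem
    | add x y _ _ hx hy => rw [map_add]; exact S.add_mem hx hy
    | smul a x _ hx =>
      rw [Algebra.smul_def, map_mul]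
      refine S.mul_mem ?_ hx
      show g (u.app V a) ∈ S
      rw [hg]
      exact S.algebraMap_mem _
  have htop : S = ⊤ := eq_top_iff.mpr fun x _ => by
    obtain ⟨b, c, -, rfl⟩ := IsFractionRing.div_surjective (A := Γ(X, u ⁻¹ᵁ V)) x
    exact S.div_mem (hB b) (hB c)
  haveI : FiniteDimensional Y.functionField (⊤ : IntermediateField Y.functionField X.functionField) := htop ▸ ‹_›
  haveI : FiniteDimensional Y.functionField X.functionField :=
    Module.Finite.equiv (IntermediateField.topEquiv (F := Y.functionField) (E := X.functionField)).toLinearEquiv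
  haveI : CharP Y.functionField p :=
    (CharP.charP_iff_prime_eq_zero Fact.out).2 (natCast_eq_zero_functionField (p := p) Y)
  haveI : ExpChar Y.functionField p := ExpChar.prime Fact.out
  haveI : IsPurelyInseparable Y.functionField X.functionField :=
    (isPurelyInseparable_iff_pow_mem Y.functionField p).mpr fun z => by
      obtain ⟨m, y, hy⟩ := exists_pow_mem (p := p) u e huniv z
      exact ⟨m, y, hy⟩
  obtain ⟨n, hn⟩ := IsPurelyInseparable.finrank_eq_pow Y.functionField X.functionField p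
  refine ⟨n, hn, fun z => ?_⟩
  have hle : (minpoly Y.functionField z).natDegree ≤ p ^ n := hn ▸ minpoly.natDegree_le z
  rw [IsPurelyInseparable.minpoly_natDegree_eq' Y.functionField p] at hle
  have hm : IsPurelyInseparable.elemExponent Y.functionField z ≤ n :=
    (Nat.pow_le_pow_iff_right (Fact.out : p.Prime).one_lt).mp hle
  obtain ⟨d, hd⟩ := Nat.exists_eq_add_of_le hm
  refine ⟨IsPurelyInseparable.elemReduct Y.functionField z ^ p ^ d, ?_⟩
  rw [map_pow, hd, pow_add, pow_mul]
  congr 1
  exact IsPurelyInseparable.algebraMap_elemReduct_eq' Y.functionField p z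

/-- The inverse up to Frobenius. -/
theorem exists_frobN_root [IsIntegralHom u] [Surjective u] [X.IsSeparated] [Y.IsSeparated]
    (hY : ∀ y : Y, IsIntegrallyClosed (Y.presheaf.stalk y)) {n : ℕ}
    (hn : ∀ z : X.functionField, ∃ y : Y.functionField, ffMap u e y = z ^ p ^ n) :
    ∃ w : Y ⟶ X, u ≫ w = frobN p n X ∧ w ≫ u = frobN p n Y := by
  have key : ∀ V : Y.affineOpens, ∃ g : (V : Y.Opens).toScheme ⟶ X,
      (u ∣_ (V : Y.Opens)) ≫ g = (u ⁻¹ᵁ (V : Y.Opens)).ι ≫ frobN p n X := by
    rintro ⟨V, hV⟩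
    by_cases hne : (V : Set Y).Nonempty
    swap
    · haveI : IsEmpty V.toScheme := ⟨fun x => hne ⟨x.1, x.2⟩⟩
      haveI : IsEmpty (u ⁻¹ᵁ V).toScheme := ⟨fun x => hne ⟨_, x.2⟩⟩
      exact ⟨isInitialOfIsEmpty.to _, isInitialOfIsEmpty.hom_ext _ _⟩
    have hηV : genericPoint Y ∈ V :=
      ((genericPoint_spec Y).mem_open_set_iff V.2).mpr (by simpa using hne)
    have hξ : genericPoint X ∈ u ⁻¹ᵁ V := show u (genericPoint X) ∈ V by rw [e]; exact hηV
    haveI : Nonempty V := ⟨⟨_, hηV⟩⟩
    haveI : Nonempty (u ⁻¹ᵁ V : X.Opens) := ⟨⟨_, hξ⟩⟩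
    have hU : IsAffineOpen (u ⁻¹ᵁ V) := hV.preimage u
    haveI := functionField_isFractionRing_of_isAffineOpen Y V hV
    haveI : IsIntegrallyClosed Γ(Y, V) := H7Lim.isIntegrallyClosed_section hY hV
    have hφA : Function.Injective (fun a => ffMap u e (Y.presheaf.germ V _ hηV a)) :=
      (ffMap u e).injective.comp (germ_injective_of_isIntegral Y (genericPoint Y) hηV)
    have hinj : Function.Injective (u.app V).hom := by
      intro a a' h
      refine hφA ?_
      show ffMap u e _ = ffMap u e _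
      rw [ffMap_germ, ffMap_germ]
      exact congrArg _ h
    have hex : ∀ b : Γ(X, u ⁻¹ᵁ V), ∃ a : Γ(Y, V), u.app V a = b ^ p ^ n := by
      intro b
      obtain ⟨y, hy⟩ := hn (X.presheaf.germ (u ⁻¹ᵁ V) _ hξ b)
      obtain ⟨P, hP, hP'⟩ := IsIntegralHom.isIntegral_app u V hV (b ^ p ^ n)
      have hint : IsIntegral Γ(Y, V) y := by
        refine ⟨P, hP, (ffMap u e).injective ?_⟩
        rw [map_zero, Polynomial.hom_eval₂, hy, ← map_pow]
        have h2 := congrArg (X.presheaf.germ (u ⁻¹ᵁ V) _ hξ).hom hP'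
        rw [map_zero, Polynomial.hom_eval₂] at h2
        refine Eq.trans ?_ h2
        congr 1
        exact RingHom.ext fun a => ffMap_germ u e V hηV a
      obtain ⟨a, rfl⟩ := IsIntegrallyClosed.algebraMap_eq_of_integral hint
      refine ⟨a, germ_injective_of_isIntegral X (genericPoint X) hξ ?_⟩
      rw [map_pow, ← hy]
      exact (ffMap_germ u e V hηV a).symm
    choose θf hθ using hex
    have hU0 : (p : Γ(X, u ⁻¹ᵁ V)) = 0 := natCast_eq_zero_app X p _
    let θ : Γ(X, u ⁻¹ᵁ V) →+* Γ(Y, V) :=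
      { toFun := θf
        map_one' := hinj (by rw [hθ, one_pow, map_one])
        map_mul' := fun a b => hinj (by rw [map_mul, hθ, hθ, hθ, mul_pow])
        map_zero' := hinj (by rw [hθ, zero_pow (pow_ne_zero n (Fact.out : p.Prime).ne_zero), map_zero])
        map_add' := fun a b => hinj (by
          rw [map_add, hθ, hθ, hθ, ← powN_apply p n _ hU0, map_add, powN_apply, powN_apply]) }
    refine ⟨hV.isoSpec.hom ≫ Spec.map (CommRingCat.ofHom θ) ≫ hU.fromSpec, ?_⟩
    have h1 : (u ∣_ V) ≫ hV.isoSpec.hom = hU.isoSpec.hom ≫ Spec.map (u.app V) := by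
      rw [← cancel_mono hV.fromSpec, Category.assoc, Category.assoc, IsAffineOpen.isoSpec_hom_fromSpec,
        morphismRestrict_ι, u.app_eq_appLE, hV.SpecMap_appLE_fromSpec u hU le_rfl,
        IsAffineOpen.isoSpec_hom_fromSpec_assoc]
    have h2 : Spec.map (u.app V) ≫ Spec.map (CommRingCat.ofHom θ) = Spec.map ((frobN p n X).appLE (u ⁻¹ᵁ V) (u ⁻¹ᵁ V) le_rfl) := by
      rw [← Spec.map_comp]
      refine congrArg Spec.map (CommRingCat.hom_ext (RingHom.ext fun b => ?_))
      show u.app V (θf b) = _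
      rw [hθ, Scheme.Hom.appLE]
      simp only [CommRingCat.hom_comp, RingHom.comp_apply]
      erw [frobN_app]
      change _ = (X.presheaf.map (𝟙 _)).hom (b ^ p ^ n)
      rw [X.presheaf.map_id]
      rfl
    rw [reassoc_of% h1, reassoc_of% h2, hU.SpecMap_appLE_fromSpec (frobN p n X) hU le_rfl,
      IsAffineOpen.isoSpec_hom_fromSpec_assoc]
  choose g hg using key
  have prop : ∀ (V : Y.affineOpens) {Q : Scheme.{u}} (q : Q ⟶ X) (h : Q ⟶ (V : Y.Opens).toScheme),
      h ≫ (V : Y.Opens).ι = q ≫ u → h ≫ g V = q ≫ frobN p n X := by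
    intro V Q q h hh
    have hr : Set.range q ⊆ Set.range (u ⁻¹ᵁ (V : Y.Opens)).ι := by
      rintro _ ⟨z, rfl⟩
      rw [Scheme.Opens.range_ι]
      show u (q z) ∈ (V : Y.Opens)
      rw [← Scheme.Hom.comp_apply, ← hh, Scheme.Hom.comp_apply]
      exact (h z).2
    set q' := IsOpenImmersion.lift (u ⁻¹ᵁ (V : Y.Opens)).ι q hr
    have hq' : q' ≫ (u ⁻¹ᵁ (V : Y.Opens)).ι = q := IsOpenImmersion.lift_fac _ _ _
    have h' : h = q' ≫ (u ∣_ (V : Y.Opens)) := by
      rw [← cancel_mono (V : Y.Opens).ι, Category.assoc, morphismRestrict_ι, reassoc_of% hq', hh]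
    rw [h', Category.assoc, hg, reassoc_of% hq']
  let 𝒰 := Y.openCoverOfIsOpenCover (fun V : Y.affineOpens => (V : Y.Opens)) (iSup_affineOpens_eq_top Y)
  have hcompat : ∀ a b : Y.affineOpens, pullback.fst (a : Y.Opens).ι (b : Y.Opens).ι ≫ g a =
      pullback.snd (a : Y.Opens).ι (b : Y.Opens).ι ≫ g b := by
    intro a b
    haveI : IsReduced (pullback (a : Y.Opens).ι (b : Y.Opens).ι) :=
      isReduced_of_isOpenImmersion (pullback.fst (a : Y.Opens).ι (b : Y.Opens).ι ≫ (a : Y.Opens).ι)
    let s := pullback.fst (a : Y.Opens).ι (b : Y.Opens).ι ≫ (a : Y.Opens).ι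
    haveI : Surjective (pullback.fst s u) := inferInstance
    refine ext_of_isDominant (pullback.fst s u) ?_
    rw [← Category.assoc, ← Category.assoc, prop a (pullback.snd s u) _ (by rw [Category.assoc]; exact pullback.condition),
      prop b (pullback.snd s u) _ (by
        rw [Category.assoc, ← pullback.condition]; exact pullback.condition)]
  let w : Y ⟶ X := 𝒰.glueMorphisms g hcompat
  have hw : ∀ V : Y.affineOpens, (V : Y.Opens).ι ≫ w = g V := fun V => 𝒰.ι_glueMorphisms g hcompat V
  have huw : u ≫ w = frobN p n X := by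
    refine (X.openCoverOfIsOpenCover (fun V : Y.affineOpens => u ⁻¹ᵁ (V : Y.Opens)) ?_).hom_ext _ _ fun (V : Y.affineOpens) => ?_
    · show ⨆ V : Y.affineOpens, u ⁻¹ᵁ (V : Y.Opens) = ⊤
      rw [← Scheme.Hom.preimage_iSup, iSup_affineOpens_eq_top, Scheme.Hom.preimage_top]
    · show (u ⁻¹ᵁ (V : Y.Opens)).ι ≫ u ≫ w = (u ⁻¹ᵁ (V : Y.Opens)).ι ≫ frobN p n X
      rw [← morphismRestrict_ι_assoc, hw, hg]
  refine ⟨w, huw, ext_of_isDominant u ?_⟩
  rw [← Category.assoc, huw, frobN_comp]

end

end Groth.Agent.H27FrobRoot
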